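/-
Numbers of elements of given order.

* `cnt`, `even_cnt`, `cnt_modEq`, `card_eq_sum_cnt`
* `Data` : the order `q (q² - 1)` together with what `PGL₂(q)` says about these numbers
-/
import Mathlib
import Cfsg.Agent.Lib.Perm.SharpThreeExchange
import Cfsg.Agent.EqLemmas

set_option autoImplicit false

namespace Cfsg.Agent.OrderNsePGL

/-- The number of elements of order `n`. -/
noncomputable def cnt (G : Type*) [Group G] (n : ℕ) : ℕ := Nat.card {g : G // orderOf g = n}

variable {G : Type*} [Group G] [Finite G]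

theorem cnt_one : cnt G 1 = 1 := by
  rw [cnt, Nat.card_eq_one_iff_unique]
  exact ⟨⟨fun a b => Subtype.ext ((orderOf_eq_one_iff.1 a.2).trans (orderOf_eq_one_iff.1 b.2).symm)⟩,
    ⟨⟨1, orderOf_one⟩⟩⟩

theorem cnt_zero : cnt G 0 = 0 := by
  rw [cnt, Nat.card_eq_zero]
  exact Or.inl ⟨fun a => (orderOf_pos a.1).ne' a.2⟩

theorem even_cnt {n : ℕ} (hn : 3 ≤ n) : Even (cnt G n) := by
  classical
  let := Fintype.ofFinite G
  let t : Equiv.Perm {g : G // orderOf g = n} :=
    ⟨fun g => ⟨g.1⁻¹, by rw [orderOf_inv, g.2]⟩, fun g => ⟨g.1⁻¹, by rw [orderOf_inv, g.2]⟩,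
      fun g => Subtype.ext (inv_inv _), fun g => Subtype.ext (inv_inv _)⟩
  have ht : t * t = 1 := Equiv.ext fun g => Subtype.ext (inv_inv _)
  have hsupp : t.support = Finset.univ := Finset.eq_univ_iff_forall.2 fun g => by
    rw [Equiv.Perm.mem_support]
    intro e
    have e' : g.1⁻¹ = g.1 := congrArg Subtype.val e
    have h2 : g.1 ^ 2 = 1 := by
      rw [pow_two]
      nth_rewrite 1 [← e']
      exact inv_mul_cancel _
    have := Nat.le_of_dvd two_pos (orderOf_dvd_of_pow_eq_one h2)
    rw [g.2] at this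
    omega
  have := Perm.even_support_of_sq_eq_one ht
  rwa [hsupp, Finset.card_univ, ← Nat.card_eq_fintype_card] at this

theorem card_eq_sum_cnt {M : ℕ} (hM : ∀ g : G, orderOf g < M) (P : ℕ → Prop) [DecidablePred P] :
    Nat.card {g : G // P (orderOf g)} = ∑ n ∈ Finset.range M with P n, cnt G n := by
  classical
  let := Fintype.ofFinite G
  rw [Nat.card_eq_fintype_card, Fintype.card_subtype,
    Finset.card_eq_sum_card_fiberwise (f := orderOf) (t := (Finset.range M).filter P)
      (fun g hg => by simpa [hM g] using hg)]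
  refine Finset.sum_congr rfl fun n hn => ?_
  rw [cnt, Nat.card_eq_fintype_card, Fintype.card_subtype, Finset.filter_filter]
  congr 1
  ext g
  simp only [Finset.mem_filter] at hn
  simp only [Finset.mem_filter, Finset.mem_univ, true_and]
  exact ⟨fun h => h.2, fun h => ⟨h ▸ hn.2, h⟩⟩

variable (p : ℕ) [Fact p.Prime]

/-- The number of elements of order `p` is `-1` modulo `p` when `p` divides the order. -/
theorem dvd_cnt_add_one (hp : p ∣ Nat.card G) : p ∣ cnt G p + 1 := by
  classical
  let := Fintype.ofFinite G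
  obtain ⟨P⟩ := (inferInstance : Nonempty (Sylow p G))
  have hP1 : (P : Subgroup G) ≠ ⊥ := P.ne_bot_of_dvd_card hp
  -- the solutions of `g ^ p = 1` with the action of `P`
  letI : MulAction ↥(P : Subgroup G) {g : G // g ^ p = 1} :=
    { smul := fun u g => ⟨u.1 * g.1 * u.1⁻¹, by rw [conj_pow, g.2, mul_one, mul_inv_cancel]⟩
      one_smul := fun g => Subtype.ext (show (1 : G) * g.1 * (1 : G)⁻¹ = g.1 by simp)
      mul_smul := fun u v g => Subtype.ext
        (show (u.1 * v.1) * g.1 * (u.1 * v.1)⁻¹ = u.1 * (v.1 * g.1 * v.1⁻¹) * u.1⁻¹ by group) }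
  have hmod := P.isPGroup'.card_modEq_card_fixedPoints (α := {g : G // g ^ p = 1})
  let Z : Subgroup ↥(P : Subgroup G) :=
    { carrier := {u | u ^ p = 1 ∧ ∀ v, v * u = u * v}
      one_mem' := ⟨one_pow _, fun v => by simp⟩
      mul_mem' := fun {a b} ha hb => ⟨by rw [Commute.mul_pow (hb.2 a), ha.1, hb.1, one_mul],
        fun v => by rw [← mul_assoc, ha.2, mul_assoc, hb.2, ← mul_assoc]⟩
      inv_mem' := fun {a} ha => ⟨by rw [inv_pow, ha.1, inv_one],
        fun v => (Commute.inv_right (ha.2 v : Commute v a)).eq⟩ }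
  have hmemP : ∀ g : {g : G // g ^ p = 1},
      g ∈ MulAction.fixedPoints ↥(P : Subgroup G) {g : G // g ^ p = 1} → g.1 ∈ (P : Subgroup G) := by
    intro g hg
    have hn : Subgroup.zpowers g.1 ≤ Subgroup.normalizer ((P : Subgroup G) : Set G) := by
      refine le_trans ?_ (Subgroup.centralizer_le_normalizer _)
      rw [Subgroup.zpowers_le, Subgroup.mem_centralizer_iff]
      intro u hu
      have := congrArg Subtype.val (hg ⟨u, hu⟩)
      exact mul_inv_eq_iff_eq_mul.1 this
    have hpg : IsPGroup p (Subgroup.zpowers g.1) := fun x => ⟨1, by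
      obtain ⟨k, hk⟩ := Subgroup.mem_zpowers_iff.1 x.2
      refine Subtype.ext ?_
      rw [Subgroup.coe_pow, ← hk, pow_one, ← zpow_natCast, zpow_comm, zpow_natCast, g.2, one_zpow]
      rfl⟩
    have h := hpg.inf_normalizer_sylow P
    exact inf_eq_left.1 (h.symm.trans (inf_eq_left.2 hn)) (Subgroup.mem_zpowers _)
  have hfix : Nat.card (MulAction.fixedPoints ↥(P : Subgroup G) {g : G // g ^ p = 1}) = Nat.card Z :=
    Nat.card_congr
      { toFun := fun g => ⟨⟨g.1.1, hmemP g.1 g.2⟩, Subtype.ext g.1.2, fun v => Subtype.ext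
          (mul_inv_eq_iff_eq_mul.1 (congrArg Subtype.val (g.2 v)))⟩
        invFun := fun u => ⟨⟨u.1.1, congrArg Subtype.val u.2.1⟩, fun v => Subtype.ext
          (mul_inv_eq_iff_eq_mul.2 (congrArg Subtype.val (u.2.2 v)))⟩
        left_inv := fun g => rfl
        right_inv := fun u => rfl }
  have hZ : p ∣ Nat.card Z := by
    haveI : Nontrivial ↥(P : Subgroup G) := (Subgroup.nontrivial_iff_ne_bot _).2 hP1
    haveI := P.isPGroup'.center_nontrivial
    obtain ⟨u, hu⟩ := exists_prime_orderOf_dvd_card' (G := Subgroup.center ↥(P : Subgroup G)) p (by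
      obtain ⟨k, hk, hkc⟩ := ((P.isPGroup'.to_subgroup _).nontrivial_iff_card).1 (this)
      rw [hkc]
      exact dvd_pow_self p (by omega))
    have hu' : (u.1 : ↥(P : Subgroup G)) ∈ Z :=
      ⟨(Subgroup.coe_pow _ u p).symm.trans (congrArg Subtype.val (orderOf_dvd_iff_pow_eq_one.1 hu.dvd)),
        Subgroup.mem_center_iff.1 u.2⟩
    have := orderOf_dvd_natCard (G := Z) (⟨u.1, hu'⟩ : Z)
    rwa [Subgroup.orderOf_mk, Subgroup.orderOf_coe, hu] at this
  have hall : Nat.card {g : G // g ^ p = 1} = cnt G p + 1 := by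
    rw [cnt, Nat.card_eq_fintype_card, Nat.card_eq_fintype_card, Fintype.card_subtype,
      Fintype.card_subtype]
    have h1 : (Finset.univ.filter fun g : G => g ^ p = 1) =
        insert 1 (Finset.univ.filter fun g : G => orderOf g = p) := by
      ext g
      simp only [Finset.mem_insert, Finset.mem_filter, Finset.mem_univ, true_and]
      refine ⟨fun h => ?_, fun h => ?_⟩
      · rcases eq_or_ne g 1 with h1 | h1
        · exact Or.inl h1
        · exact Or.inr (orderOf_eq_prime h h1)
      · rcases h with rfl | h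
        · exact one_pow _
        · rw [← h, pow_orderOf_eq_one]
    rw [h1, Finset.card_insert_of_notMem (by simp [(Fact.out : p.Prime).one_lt.ne])]
  rw [← hall]
  exact (hmod.dvd_iff dvd_rfl).2 (hfix ▸ hZ)

omit [Fact p.Prime] in
theorem cnt_ne_one (hp : 3 ≤ p) : cnt G p ≠ 1 := fun h => by
  have := even_cnt (G := G) hp
  rw [h] at this
  exact Nat.not_even_one this

/-- The hypotheses drawn from `PGL₂(q)`. -/
structure Data (q : ℕ) (G : Type*) [Group G] : Prop where
  card : Nat.card G = q * (q ^ 2 - 1)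
  two : ∃ n, cnt G n = q ^ 2
  values : ∀ n, cnt G n = 0 ∨ cnt G n = 1 ∨ cnt G n = q ^ 2 ∨ cnt G n = q ^ 2 - 1 ∨ q ∣ cnt G n

end Cfsg.Agent.OrderNsePGL
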