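/-
The local structure forced by the numbers of elements of each order of `PGL₂(q)`.

Main results: `cnt_char_eq`, `cnt_two_eq`, `exponent_of_commute`, `exists_inverting`,
`centralizer_eq`, `card_normalizer`, `card_sylow`, `invol_in_normalizer`.
-/
import Cfsg.Agent.Lib.OrderNsePGL.Counts
import Cfsg.Agent.Lib.PowEqOne.Basic

set_option autoImplicit false

namespace Cfsg.Agent.OrderNsePGL

variable {G : Type*} [Group G] [Finite G] {q p : ℕ} [Fact p.Prime]
  (D : Data q G) {f : ℕ} (hf : f ≠ 0) (hq : q = p ^ f) (hp : p ≠ 2)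

include hp in
omit [Fact p.Prime] in
theorem three_le [Fact p.Prime] : 3 ≤ p := by
  have := (Fact.out : p.Prime).two_le
  omega

include hf hq in
theorem p_dvd_q : p ∣ q := hq ▸ dvd_pow_self p hf

include hf hq hp in
theorem q_bounds : 3 ≤ q ∧ 8 ≤ q ^ 2 - 1 := by
  have h3 := three_le (p := p) hp
  have h1 : 3 ≤ q := h3.trans (Nat.le_of_dvd (hq ▸ pow_pos (by omega) f) (p_dvd_q hf hq))
  have : 9 ≤ q ^ 2 := by nlinarith
  omega

include hf hq hp in
theorem coprime_rest : Nat.Coprime q (q ^ 2 - 1) := by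
  obtain ⟨h3, h8⟩ := q_bounds hf hq hp
  refine Nat.Coprime.coprime_dvd_left (dvd_pow_self q two_ne_zero) ?_
  rw [Nat.coprime_self_sub_right (by omega)]
  exact Nat.coprime_one_right _

include D hf hq hp in
theorem cnt_char_eq : cnt G p = q ^ 2 - 1 := by
  obtain ⟨h3, h8⟩ := q_bounds hf hq hp
  have hdvd : p ∣ Nat.card G := D.card ▸ (p_dvd_q hf hq).mul_right _
  have h1 := dvd_cnt_add_one p hdvd
  have hbad : ∀ c, p ∣ c + 1 → p ∣ c → False := fun c ha hb =>
    (Fact.out : p.Prime).one_lt.ne' (Nat.dvd_one.1 ((Nat.dvd_add_right hb).1 ha))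
  rcases D.values p with h | h | h | h | h
  · exact (hbad _ h1 (h ▸ dvd_zero p)).elim
  · exact absurd h (cnt_ne_one p (three_le hp))
  · exact (hbad _ h1 (h ▸ (p_dvd_q hf hq).trans (dvd_pow_self q two_ne_zero))).elim
  · exact h
  · exact (hbad _ h1 ((p_dvd_q hf hq).trans h)).elim

include D hf hq hp in
theorem cnt_two_eq : cnt G 2 = q ^ 2 := by
  obtain ⟨h3, h8⟩ := q_bounds hf hq hp
  obtain ⟨n, hn⟩ := D.two
  rcases lt_or_ge n 3 with h | h
  · interval_cases n
    · rw [cnt_zero] at hn; omega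
    · rw [cnt_one] at hn; omega
    · exact hn
  · have hodd : Odd (cnt G n) := by
      rw [hn, hq]; exact (((Fact.out : p.Prime).odd_of_ne_two hp).pow).pow
    exact absurd (even_cnt h) (Nat.not_even_iff_odd.2 hodd)

include D hf hq hp in
theorem dvd_or_eq {n : ℕ} (h1 : n ≠ 1) : q ∣ cnt G n ∨ cnt G n = q ^ 2 - 1 ∧ n ≠ 2 := by
  obtain ⟨h3, h8⟩ := q_bounds hf hq hp
  rcases eq_or_ne n 2 with rfl | h2
  · exact Or.inl (cnt_two_eq D hf hq hp ▸ dvd_pow_self q two_ne_zero)
  rcases eq_or_ne n 0 with rfl | h0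
  · exact Or.inl (by rw [cnt_zero]; exact dvd_zero q)
  have he := even_cnt (G := G) (n := n) (by omega)
  rcases D.values n with h | h | h | h | h
  · exact Or.inl (h ▸ dvd_zero q)
  · rw [h] at he; exact absurd he Nat.not_even_one
  · exact Or.inl (h ▸ dvd_pow_self q two_ne_zero)
  · exact Or.inr ⟨h, h2⟩
  · exact Or.inl h

include D hf hq hp in
theorem dvd_cnt {n : ℕ} (h1 : n ≠ 1) (hn : n ≠ p) : q ∣ cnt G n := by
  classical
  obtain ⟨h3, h8⟩ := q_bounds hf hq hp
  refine (dvd_or_eq D hf hq hp h1).resolve_right fun hbad => ?_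
  have hM : ∀ g : G, orderOf g < Nat.card G + 1 := fun g =>
    Nat.lt_succ_of_le (Nat.le_of_dvd Nat.card_pos (orderOf_dvd_natCard g))
  set s := (Finset.range (Nat.card G + 1)).filter fun m => ¬ q ∣ cnt G m ∧ m ≠ 1 ∧ m ≠ p with hs
  have hmem : n ∈ s := by
    simp only [hs, Finset.mem_filter, Finset.mem_range]
    refine ⟨?_, ?_, h1, hn⟩
    · have : cnt G n ≠ 0 := by rw [hbad.1]; omega
      obtain ⟨⟨g, hg⟩⟩ := (Nat.card_ne_zero.1 this).1
      exact hg ▸ hM g
    · intro hd
      rw [hbad.1] at hd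
      have := (coprime_rest hf hq hp).eq_one_of_dvd hd
      omega
  have hall := card_eq_sum_cnt (G := G) hM (fun _ => True)
  rw [Finset.filter_true,
    Nat.card_congr (Equiv.subtypeUnivEquiv (fun _ : G => trivial))] at hall
  have h1r : 1 ∈ Finset.range (Nat.card G + 1) := by
    rw [Finset.mem_range]; have := Nat.card_pos (α := G); omega
  have hpr : p ∈ Finset.range (Nat.card G + 1) := by
    rw [Finset.mem_range, Nat.lt_succ_iff]
    exact Nat.le_of_dvd Nat.card_pos (D.card ▸ (p_dvd_q hf hq).mul_right _)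
  have hp1 : p ≠ 1 := (Fact.out : p.Prime).one_lt.ne'
  rw [← Finset.add_sum_erase _ _ h1r,
    ← Finset.add_sum_erase _ _ (Finset.mem_erase.2 ⟨hp1, hpr⟩), cnt_one, cnt_char_eq D hf hq hp,
    ← Finset.sum_filter_add_sum_filter_not _ (fun m => ¬ q ∣ cnt G m)] at hall
  have hseq : (((Finset.range (Nat.card G + 1)).erase 1).erase p).filter
      (fun m => ¬ q ∣ cnt G m) = s := by
    ext m
    simp only [hs, Finset.mem_filter, Finset.mem_erase]
    tauto
  rw [hseq, Finset.sum_congr rfl (g := fun _ => q ^ 2 - 1) (fun m hm => by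
    simp only [hs, Finset.mem_filter] at hm
    exact ((dvd_or_eq D hf hq hp hm.2.2.1).resolve_left hm.2.1).1),
    Finset.sum_const, smul_eq_mul] at hall
  replace hall := D.card.symm.trans hall
  obtain ⟨R, hR⟩ : q ∣ ∑ x ∈ (((Finset.range (Nat.card G + 1)).erase 1).erase p).filter
      (fun m => ¬ ¬ q ∣ cnt G m), cnt G x :=
    Finset.dvd_sum fun m hm => not_not.1 (Finset.mem_filter.1 hm).2
  rw [hR] at hall
  -- so `q` divides the number of exceptional orders
  have hQ : 1 + (q ^ 2 - 1) = q ^ 2 := by omega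
  have hd : q ∣ s.card * (q ^ 2 - 1) := by
    have h' : q * (q ^ 2 - 1) = s.card * (q ^ 2 - 1) + (q * R + q * q) := by
      rw [← pow_two]; omega
    exact (Nat.dvd_add_left ⟨R + q, by ring⟩).1 (h' ▸ dvd_mul_right q _)
  have hs0 : 0 < s.card := Finset.card_pos.2 ⟨n, hmem⟩
  have hle := Nat.le_of_dvd hs0 ((coprime_rest hf hq hp).dvd_of_dvd_mul_right hd)
  have := Nat.mul_le_mul_right (q ^ 2 - 1) hle
  omega

include D hf hq hp in
theorem orderOf_eq_of_dvd {g : G} (hg : p ∣ orderOf g) : orderOf g = p := by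
  classical
  by_contra hne
  obtain ⟨h3, h8⟩ := q_bounds hf hq hp
  have hM : ∀ x : G, orderOf x < Nat.card G + 1 := fun x =>
    Nat.lt_succ_of_le (Nat.le_of_dvd Nat.card_pos (orderOf_dvd_natCard x))
  set M := Nat.card {x : G // p ∣ orderOf x ∧ orderOf x ≠ p} with hMdef
  have hMq : q ∣ M := by
    rw [hMdef, card_eq_sum_cnt hM (fun m => p ∣ m ∧ m ≠ p)]
    refine Finset.dvd_sum fun m hm => dvd_cnt D hf hq hp ?_ (Finset.mem_filter.1 hm).2.2
    rintro rfl
    exact (Fact.out : p.Prime).not_dvd_one (Finset.mem_filter.1 hm).2.1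
  have hT : Nat.card {x : G // ¬ p ∣ orderOf x} = Nat.card {x : G // x ^ (q ^ 2 - 1) = 1} :=
    Nat.card_congr (Equiv.subtypeEquivRight fun x => by
      rw [← orderOf_dvd_iff_pow_eq_one]
      constructor
      · intro h
        refine Nat.Coprime.dvd_of_dvd_mul_left ?_ (D.card ▸ orderOf_dvd_natCard x)
        rw [hq]
        exact ((Fact.out : p.Prime).coprime_iff_not_dvd.2 h).symm.pow_right f
      · intro h hdv
        have := ((coprime_rest hf hq hp).coprime_dvd_left (p_dvd_q hf hq)).eq_one_of_dvd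
          (hdv.trans h)
        exact (Fact.out : p.Prime).one_lt.ne' this)
  have hTd : q ^ 2 - 1 ∣ Nat.card {x : G // ¬ p ∣ orderOf x} :=
    hT ▸ PowEqOne.dvd_card_pow_eq_one (D.card ▸ dvd_mul_left _ _)
  have hsplit : Nat.card {x : G // ¬ p ∣ orderOf x} + (cnt G p + M) = q * (q ^ 2 - 1) := by
    let := Fintype.ofFinite G
    have e1 : cnt G p + M = Nat.card {x : G // p ∣ orderOf x} := by
      rw [cnt, hMdef, ← Nat.card_sum]
      refine Nat.card_congr ?_
      refine (Equiv.sumCongr (Equiv.subtypeEquivRight fun x => ?_) (Equiv.subtypeEquivRight fun x => ?_)).trans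
        ((Equiv.sumCongr (Equiv.subtypeSubtypeEquivSubtypeInter (fun x : G => p ∣ orderOf x) (fun x => orderOf x = p)).symm
          (Equiv.subtypeSubtypeEquivSubtypeInter (fun x : G => p ∣ orderOf x) (fun x => ¬ orderOf x = p)).symm).trans
          (Equiv.sumCompl _))
      · exact ⟨fun h => ⟨h ▸ dvd_rfl, h⟩, And.right⟩
      · exact Iff.rfl
    rw [e1, ← D.card, add_comm, ← Nat.card_sum]
    exact Nat.card_congr (Equiv.sumCompl _)
  rw [cnt_char_eq D hf hq hp] at hsplit
  have hMQ : q ^ 2 - 1 ∣ M := by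
    have h' : q ^ 2 - 1 ∣ Nat.card {x : G // ¬ p ∣ orderOf x} + ((q ^ 2 - 1) + M) :=
      hsplit ▸ dvd_mul_left _ _
    exact (Nat.dvd_add_right dvd_rfl).1 ((Nat.dvd_add_right hTd).1 h')
  have hpos : 0 < M := by
    rw [hMdef, Nat.card_pos_iff]; exact ⟨⟨⟨g, hg, hne⟩⟩, inferInstance⟩
  have := Nat.le_of_dvd hpos ((coprime_rest hf hq hp).mul_dvd_of_dvd_of_dvd hMq hMQ)
  omega

include D hf hq hp in
/-- An element commuting with one of order `p` has order dividing `p`. -/
theorem exponent_of_commute {x g : G} (hx : orderOf x = p) (hc : Commute g x) : g ^ p = 1 := by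
  by_cases hg : p ∣ orderOf g
  · exact orderOf_dvd_iff_pow_eq_one.1 (orderOf_eq_of_dvd D hf hq hp hg).dvd
  have hco : (orderOf g).Coprime (orderOf x) := by
    rw [hx]; exact ((Fact.out : p.Prime).coprime_iff_not_dvd.2 hg).symm
  have hgx := hc.orderOf_mul_eq_mul_orderOf_of_coprime hco
  have h2 := orderOf_eq_of_dvd D hf hq hp (g := g * x) (by rw [hgx, hx]; exact dvd_mul_left _ _)
  rw [hgx, hx] at h2
  have h3 : orderOf g = 1 :=
    Nat.eq_of_mul_eq_mul_right (Fact.out : p.Prime).pos (h2.trans (one_mul p).symm)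
  rw [orderOf_eq_one_iff.1 h3, one_pow]

include D hf hq hp in
theorem card_sylow_subgroup (P : Sylow p G) : Nat.card ↥(P : Subgroup G) = q := by
  obtain ⟨h3, h8⟩ := q_bounds hf hq hp
  have hcop := (coprime_rest hf hq hp).coprime_dvd_left (p_dvd_q hf hq)
  rw [P.card_eq_multiplicity, D.card, Nat.factorization_mul (by omega) (by omega), Finsupp.add_apply,
    Nat.factorization_eq_zero_of_not_dvd fun h =>
      (Fact.out : p.Prime).one_lt.ne' (hcop.eq_one_of_dvd h),
    hq, (Fact.out : p.Prime).factorization_pow, Finsupp.single_eq_same, add_zero]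

theorem orderOf_of_mem (P : Sylow p G) {u : G} (hu : u ∈ (P : Subgroup G)) (h1 : u ≠ 1) :
    p ∣ orderOf u := by
  obtain ⟨k, hk⟩ := P.isPGroup' ⟨u, hu⟩
  obtain ⟨m, -, hm⟩ := (Nat.dvd_prime_pow Fact.out).1
    (orderOf_dvd_of_pow_eq_one (congrArg Subtype.val hk : u ^ p ^ k = 1))
  rcases Nat.eq_zero_or_pos m with rfl | hm0
  · exact absurd (orderOf_eq_one_iff.1 (by rw [hm, pow_zero])) h1
  · exact hm ▸ dvd_pow_self p hm0.ne'

include D hf hq hp in
theorem orderOf_sylow (P : Sylow p G) {u : G} (hu : u ∈ (P : Subgroup G)) (h1 : u ≠ 1) :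
    orderOf u = p :=
  orderOf_eq_of_dvd D hf hq hp (orderOf_of_mem P hu h1)

include D hf hq hp in
theorem centralizer_le_sylow {x : G} (hx : orderOf x = p) (P : Sylow p G)
    (hP : (P : Subgroup G) ≤ Subgroup.centralizer ({x} : Set G)) :
    Subgroup.centralizer ({x} : Set G) = (P : Subgroup G) :=
  P.is_maximal' (fun g => ⟨1, Subtype.ext (by
    rw [pow_one]
    exact exponent_of_commute D hf hq hp hx (Subgroup.mem_centralizer_singleton_iff.1 g.2))⟩) hP

include D hf hq hp in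
/-- All elements of order `p` are conjugate to a central element of a Sylow subgroup. -/
theorem isConj_of_central (P : Sylow p G) {z : G} (hz : z ∈ (P : Subgroup G)) (h1 : z ≠ 1)
    (hc : ∀ u ∈ (P : Subgroup G), u * z = z * u) {x : G} (hx : orderOf x = p) :
    ∃ g : G, g * z * g⁻¹ = x := by
  classical
  have hzp := orderOf_sylow D hf hq hp P hz h1
  have hC := centralizer_le_sylow D hf hq hp hzp P fun u hu =>
    Subgroup.mem_centralizer_singleton_iff.2 (hc u hu)
  obtain ⟨h3, h8⟩ := q_bounds hf hq hp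
  let f' : G ⧸ Subgroup.centralizer ({z} : Set G) → {g : G // orderOf g = p} := fun c =>
    Quotient.liftOn' c (fun g => ⟨g * z * g⁻¹, by
      rw [show g * z * g⁻¹ = MulAut.conj g z from rfl, MulEquiv.orderOf_eq, hzp]⟩) fun a b hab => by
        rw [QuotientGroup.leftRel_apply, Subgroup.mem_centralizer_singleton_iff] at hab
        refine Subtype.ext ?_
        show a * z * a⁻¹ = b * z * b⁻¹
        calc a * z * a⁻¹ = a * (z * (a⁻¹ * b)) * b⁻¹ := by group
          _ = a * ((a⁻¹ * b) * z) * b⁻¹ := by rw [hab]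
          _ = b * z * b⁻¹ := by group
  have hinj : Function.Injective f' := fun c d e => by
    induction c using QuotientGroup.induction_on with | _ a =>
    induction d using QuotientGroup.induction_on with | _ b =>
    have e' : a * z * a⁻¹ = b * z * b⁻¹ := congrArg Subtype.val e
    rw [QuotientGroup.eq, Subgroup.mem_centralizer_singleton_iff]
    calc a⁻¹ * b * z = a⁻¹ * (b * z * b⁻¹) * b := by group
      _ = a⁻¹ * (a * z * a⁻¹) * b := by rw [e']
      _ = z * (a⁻¹ * b) := by group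
  have hcard : Nat.card (G ⧸ Subgroup.centralizer ({z} : Set G)) =
      Nat.card {g : G // orderOf g = p} := by
    have h := (Subgroup.centralizer ({z} : Set G)).index_mul_card
    rw [hC, card_sylow_subgroup D hf hq hp P, D.card, mul_comm q (q ^ 2 - 1)] at h
    rw [← Subgroup.index_eq_card, hC, Nat.eq_of_mul_eq_mul_right (by omega) h,
      ← cnt_char_eq D hf hq hp, cnt]
  obtain ⟨c, hc'⟩ := (hinj.bijective_of_nat_card_le hcard.ge).2 ⟨x, hx⟩
  induction c using QuotientGroup.induction_on with | _ a =>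
  exact ⟨a, congrArg Subtype.val hc'⟩

include D hf hq hp in
/-- An involution of `G` normalising a Sylow subgroup inverts it. -/
theorem invert_of_invol (P : Sylow p G) {t : G} (ht : orderOf t = 2)
    (htN : t ∈ Subgroup.normalizer ((P : Subgroup G) : Set G)) :
    ∀ u ∈ (P : Subgroup G), t * u * t⁻¹ = u⁻¹ := by
  have ht2 : t * t = 1 := by rw [← pow_two]; exact orderOf_dvd_iff_pow_eq_one.1 ht.dvd
  let φ : ↥(P : Subgroup G) →* ↥(P : Subgroup G) :=
    MonoidHom.mk' (fun u => ⟨t * u.1 * t⁻¹, (Subgroup.mem_normalizer_iff.1 htN u.1).1 u.2⟩)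
      fun u v => Subtype.ext (show t * (u.1 * v.1) * t⁻¹ = t * u.1 * t⁻¹ * (t * v.1 * t⁻¹) by group)
  have hfp : MonoidHom.FixedPointFree φ := fun u hu => by
    by_contra h1
    have hu' : Commute t u.1 := mul_inv_eq_iff_eq_mul.1 (congrArg Subtype.val hu)
    have h := orderOf_dvd_of_pow_eq_one (exponent_of_commute D hf hq hp
      (orderOf_sylow D hf hq hp P u.2 fun e => h1 (Subtype.ext e)) hu')
    rw [ht] at h
    exact hp ((Nat.prime_dvd_prime_iff_eq Nat.prime_two Fact.out).1 h).symm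
  have hinvol : Function.Involutive φ := fun u => Subtype.ext (by
    show t * (t * u.1 * t⁻¹) * t⁻¹ = u.1
    rw [show t * (t * u.1 * t⁻¹) * t⁻¹ = (t * t) * u.1 * (t * t)⁻¹ by group, ht2]
    simp)
  intro u hu
  exact congrArg Subtype.val (congrFun (hfp.coe_eq_inv_of_involutive hinvol) ⟨u, hu⟩)

include D hf hq hp in
theorem exists_inverting (P : Sylow p G) : ∃ t : G, orderOf t = 2 ∧
    t ∈ Subgroup.normalizer ((P : Subgroup G) : Set G) ∧
    ∀ u ∈ (P : Subgroup G), t * u * t⁻¹ = u⁻¹ := by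
  classical
  have hdvd : p ∣ Nat.card G := D.card ▸ (p_dvd_q hf hq).mul_right _
  haveI : Nontrivial ↥(P : Subgroup G) :=
    (Subgroup.nontrivial_iff_ne_bot _).2 (P.ne_bot_of_dvd_card hdvd)
  haveI := P.isPGroup'.center_nontrivial
  let Z := Subgroup.center ↥(P : Subgroup G)
  obtain ⟨z, hz⟩ := exists_ne (1 : Z)
  have hcen : ∀ w : Z, ∀ u ∈ (P : Subgroup G), u * (w.1 : G) = (w.1 : G) * u := fun w u hu =>
    congrArg Subtype.val (Subgroup.mem_center_iff.1 w.2 ⟨u, hu⟩)
  have hne : ∀ w : Z, w ≠ 1 → (w.1 : G) ≠ 1 := fun w hw h => hw (Subtype.ext (Subtype.ext h))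
  have hC : ∀ w : Z, w ≠ 1 → Subgroup.centralizer ({(w.1 : G)} : Set G) = (P : Subgroup G) :=
    fun w hw => centralizer_le_sylow D hf hq hp (orderOf_sylow D hf hq hp P w.1.2 (hne w hw)) P
      fun u hu => Subgroup.mem_centralizer_singleton_iff.2 (hcen w u hu)
  have hg : ∀ w : {w : Z // w ≠ 1}, ∃ g ∈ Subgroup.normalizer ((P : Subgroup G) : Set G),
      g * (z.1 : G) * g⁻¹ = w.1.1 := fun w => by
    obtain ⟨g, hg⟩ := isConj_of_central D hf hq hp P z.1.2 (hne z hz) (hcen z)
      (orderOf_sylow D hf hq hp P w.1.1.2 (hne _ w.2))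
    refine ⟨g, Subgroup.mem_normalizer_iff.2 fun u => ?_, hg⟩
    rw [← hC z hz]
    conv_rhs => rw [hC z hz, ← hC w.1 w.2, ← hg]
    rw [Subgroup.mem_centralizer_singleton_iff, Subgroup.mem_centralizer_singleton_iff]
    constructor
    · intro e
      calc g * u * g⁻¹ * (g * (z.1 : G) * g⁻¹) = g * (u * (z.1 : G)) * g⁻¹ := by group
        _ = g * ((z.1 : G) * u) * g⁻¹ := by rw [e]
        _ = _ := by group
    · intro e
      simpa [mul_assoc] using congrArg (fun v => g⁻¹ * v * g) e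
  choose g hgN hgz using hg
  let F : {w : Z // w ≠ 1} × ↥(P : Subgroup G) → ↥(Subgroup.normalizer ((P : Subgroup G) : Set G)) :=
    fun x => ⟨g x.1 * x.2.1, mul_mem (hgN _) (Subgroup.le_normalizer x.2.2)⟩
  have hF : Function.Bijective F := by
    have hval : ∀ x, (F x).1 * (z.1 : G) * (F x).1⁻¹ = x.1.1.1 := fun x => by
      show g x.1 * x.2.1 * _ * (g x.1 * x.2.1)⁻¹ = _
      rw [mul_assoc (g x.1), hcen z _ x.2.2, ← hgz x.1]
      group
    refine ⟨fun x y e => ?_, fun n => ?_⟩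
    · have h1 : x.1 = y.1 := Subtype.ext (Subtype.ext (Subtype.ext (by rw [← hval x, ← hval y, e])))
      refine Prod.ext h1 (Subtype.ext ?_)
      have h2 : g x.1 * x.2.1 = g y.1 * y.2.1 := congrArg Subtype.val e
      rw [h1] at h2
      exact mul_left_cancel h2
    · let w₀ : ↥(P : Subgroup G) := ⟨n.1 * z.1.1 * n.1⁻¹, (Subgroup.mem_normalizer_iff.1 n.2 _).1 z.1.2⟩
      have hw : w₀ ∈ Z := Subgroup.mem_center_iff.2 fun u => Subtype.ext (by
        show u.1 * (n.1 * _ * n.1⁻¹) = n.1 * _ * n.1⁻¹ * u.1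
        have hu : n.1⁻¹ * u.1 * n.1 ∈ (P : Subgroup G) := by
          simpa using (Subgroup.mem_normalizer_iff.1 (inv_mem n.2) u.1).1 u.2
        calc u.1 * (n.1 * (z.1 : G) * n.1⁻¹) = n.1 * ((n.1⁻¹ * u.1 * n.1) * (z.1 : G)) * n.1⁻¹ := by group
          _ = n.1 * ((z.1 : G) * (n.1⁻¹ * u.1 * n.1)) * n.1⁻¹ := by rw [hcen z _ hu]
          _ = _ := by group)
      let w : {w : Z // w ≠ 1} := ⟨⟨w₀, hw⟩, fun h =>
        hne z hz (conj_eq_one_iff.1 (congrArg (fun v : Z => (v.1 : G)) h))⟩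
      have hm : (g w)⁻¹ * n.1 ∈ (P : Subgroup G) := by
        suffices hs : (g w)⁻¹ * n.1 ∈ Subgroup.centralizer ({(z.1 : G)} : Set G) by
          rw [hC z hz] at hs; exact hs
        rw [Subgroup.mem_centralizer_singleton_iff]
        have e1 : g w * z.1.1 * (g w)⁻¹ = n.1 * z.1.1 * n.1⁻¹ := hgz w
        calc (g w)⁻¹ * n.1 * z.1.1 = (g w)⁻¹ * (n.1 * z.1.1 * n.1⁻¹) * n.1 := by group
          _ = (g w)⁻¹ * (g w * z.1.1 * (g w)⁻¹) * n.1 := by rw [e1]
          _ = _ := by group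
      exact ⟨(w, ⟨_, hm⟩), Subtype.ext (mul_inv_cancel_left _ _)⟩
  obtain ⟨k, hk⟩ := IsPGroup.iff_card.1 (P.isPGroup'.to_subgroup Z)
  have heven : Even (Nat.card {w : Z // w ≠ 1}) := by
    let := Fintype.ofFinite Z
    rw [Nat.card_eq_fintype_card, Fintype.card_subtype_compl, Fintype.card_subtype_eq,
      ← Nat.card_eq_fintype_card, hk]
    exact Nat.Odd.sub_odd ((Fact.out : p.Prime).odd_of_ne_two hp).pow odd_one
  have h2 : 2 ∣ Nat.card ↥(Subgroup.normalizer ((P : Subgroup G) : Set G)) := by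
    rw [← Nat.card_congr (Equiv.ofBijective F hF), Nat.card_prod]
    exact (even_iff_two_dvd.1 heven).mul_right _
  haveI : Fact (Nat.Prime 2) := ⟨Nat.prime_two⟩
  obtain ⟨t, ht⟩ := exists_prime_orderOf_dvd_card' 2 h2
  have ht' : orderOf t.1 = 2 := by rw [Subgroup.orderOf_coe, ht]
  exact ⟨t, ht', t.2, invert_of_invol D hf hq hp P ht' t.2⟩

include D hf hq hp in
theorem centralizer_eq (P : Sylow p G) {u : G} (hu : u ∈ (P : Subgroup G)) (h1 : u ≠ 1) :
    Subgroup.centralizer ({u} : Set G) = (P : Subgroup G) := by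
  obtain ⟨t, -, -, hinv⟩ := exists_inverting D hf hq hp P
  have hcomm : ∀ v ∈ (P : Subgroup G), v * u = u * v := fun v hv => by
    have h := hinv _ (mul_mem hv hu)
    rw [show t * (v * u) * t⁻¹ = t * v * t⁻¹ * (t * u * t⁻¹) by group, hinv v hv, hinv u hu,
      ← mul_inv_rev, inv_inj] at h
    exact h.symm
  exact centralizer_le_sylow D hf hq hp (orderOf_sylow D hf hq hp P hu h1) P fun v hv =>
    Subgroup.mem_centralizer_singleton_iff.2 (hcomm v hv)

include D hf hq hp in
theorem card_normalizer (P : Sylow p G) :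
    Nat.card ↥(Subgroup.normalizer ((P : Subgroup G) : Set G)) = q * (q - 1) := by
  classical
  have hdvd : p ∣ Nat.card G := D.card ▸ (p_dvd_q hf hq).mul_right _
  haveI : Nontrivial ↥(P : Subgroup G) :=
    (Subgroup.nontrivial_iff_ne_bot _).2 (P.ne_bot_of_dvd_card hdvd)
  obtain ⟨z, hz⟩ := exists_ne (1 : ↥(P : Subgroup G))
  have hz1 : z.1 ≠ 1 := fun h => hz (Subtype.ext h)
  have hcen : ∀ u ∈ (P : Subgroup G), u * z.1 = z.1 * u := fun u hu => by
    rw [← Subgroup.mem_centralizer_singleton_iff, centralizer_eq D hf hq hp P z.2 hz1]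
    exact hu
  have hg : ∀ w : {w : ↥(P : Subgroup G) // w ≠ 1}, ∃ g ∈ Subgroup.normalizer ((P : Subgroup G) : Set G),
      g * z.1 * g⁻¹ = w.1.1 := fun w => by
    have hw1 : w.1.1 ≠ 1 := fun h => w.2 (Subtype.ext h)
    obtain ⟨g, hg⟩ := isConj_of_central D hf hq hp P z.2 hz1 hcen
      (orderOf_sylow D hf hq hp P w.1.2 hw1)
    refine ⟨g, Subgroup.mem_normalizer_iff.2 fun u => ?_, hg⟩
    rw [← centralizer_eq D hf hq hp P z.2 hz1]
    conv_rhs => rw [centralizer_eq D hf hq hp P z.2 hz1, ← centralizer_eq D hf hq hp P w.1.2 hw1, ← hg]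
    rw [Subgroup.mem_centralizer_singleton_iff, Subgroup.mem_centralizer_singleton_iff]
    constructor
    · intro e
      calc g * u * g⁻¹ * (g * z.1 * g⁻¹) = g * (u * z.1) * g⁻¹ := by group
        _ = g * (z.1 * u) * g⁻¹ := by rw [e]
        _ = _ := by group
    · intro e
      simpa [mul_assoc] using congrArg (fun v => g⁻¹ * v * g) e
  choose g hgN hgz using hg
  let F : {w : ↥(P : Subgroup G) // w ≠ 1} × ↥(P : Subgroup G) →
      ↥(Subgroup.normalizer ((P : Subgroup G) : Set G)) :=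
    fun x => ⟨g x.1 * x.2.1, mul_mem (hgN _) (Subgroup.le_normalizer x.2.2)⟩
  have hF : Function.Bijective F := by
    have hval : ∀ x, (F x).1 * z.1 * (F x).1⁻¹ = x.1.1.1 := fun x => by
      show g x.1 * x.2.1 * _ * (g x.1 * x.2.1)⁻¹ = _
      rw [mul_assoc (g x.1), hcen _ x.2.2, ← hgz x.1]
      group
    refine ⟨fun x y e => ?_, fun n => ?_⟩
    · have h1 : x.1 = y.1 := Subtype.ext (Subtype.ext (by rw [← hval x, ← hval y, e]))
      refine Prod.ext h1 (Subtype.ext ?_)
      have h2 : g x.1 * x.2.1 = g y.1 * y.2.1 := congrArg Subtype.val e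
      rw [h1] at h2
      exact mul_left_cancel h2
    · let w : {w : ↥(P : Subgroup G) // w ≠ 1} :=
        ⟨⟨n.1 * z.1 * n.1⁻¹, (Subgroup.mem_normalizer_iff.1 n.2 _).1 z.2⟩, fun h =>
          hz1 (conj_eq_one_iff.1 (congrArg Subtype.val h))⟩
      have hm : (g w)⁻¹ * n.1 ∈ (P : Subgroup G) := by
        suffices hs : (g w)⁻¹ * n.1 ∈ Subgroup.centralizer ({z.1} : Set G) by
          rw [centralizer_eq D hf hq hp P z.2 hz1] at hs; exact hs
        rw [Subgroup.mem_centralizer_singleton_iff]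
        have e1 : g w * z.1 * (g w)⁻¹ = n.1 * z.1 * n.1⁻¹ := hgz w
        calc (g w)⁻¹ * n.1 * z.1 = (g w)⁻¹ * (n.1 * z.1 * n.1⁻¹) * n.1 := by group
          _ = (g w)⁻¹ * (g w * z.1 * (g w)⁻¹) * n.1 := by rw [e1]
          _ = _ := by group
      exact ⟨(w, ⟨_, hm⟩), Subtype.ext (mul_inv_cancel_left _ _)⟩
  let := Fintype.ofFinite ↥(P : Subgroup G)
  rw [← Nat.card_congr (Equiv.ofBijective F hF), Nat.card_prod, Nat.card_eq_fintype_card,
    Fintype.card_subtype_compl, Fintype.card_subtype_eq, ← Nat.card_eq_fintype_card,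
    card_sylow_subgroup D hf hq hp P, mul_comm]

include D hf hq hp in
theorem card_sylow : Nat.card (Sylow p G) = q + 1 := by
  obtain ⟨h3, h8⟩ := q_bounds hf hq hp
  obtain ⟨P⟩ := (inferInstance : Nonempty (Sylow p G))
  have h := (Subgroup.normalizer ((P : Subgroup G) : Set G)).index_mul_card
  rw [show (Subgroup.normalizer ((P : Subgroup G) : Set G)).index = Nat.card (Sylow p G) from
    P.card_eq_index_normalizer.symm, card_normalizer D hf hq hp P, D.card] at h
  have h2 : q ^ 2 - 1 = (q + 1) * (q - 1) := by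
    rw [show q ^ 2 - 1 = q ^ 2 - 1 ^ 2 by simp, Nat.sq_sub_sq]
  refine Nat.eq_of_mul_eq_mul_right (Nat.mul_pos (by omega) (by omega) : 0 < q * (q - 1)) (h.trans ?_)
  rw [h2]; ring

include D hf hq hp in
/-- A normaliser holds exactly `q` involutions. -/
theorem card_invol_normalizer (P : Sylow p G) :
    Nat.card {i : G // orderOf i = 2 ∧ i ∈ Subgroup.normalizer ((P : Subgroup G) : Set G)} = q := by
  obtain ⟨t, ht, htN, hinv⟩ := exists_inverting D hf hq hp P
  have ht2 : t * t = 1 := by rw [← pow_two]; exact orderOf_dvd_iff_pow_eq_one.1 ht.dvd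
  have hti : t⁻¹ = t := inv_eq_of_mul_eq_one_right ht2
  have ht1 : t ∉ (P : Subgroup G) := fun h => by
    have h2 := orderOf_of_mem P h (fun e => by rw [e, orderOf_one] at ht; omega)
    rw [ht] at h2
    exact hp ((Nat.prime_dvd_prime_iff_eq Fact.out Nat.prime_two).1 h2)
  let F : ↥(P : Subgroup G) →
      {i : G // orderOf i = 2 ∧ i ∈ Subgroup.normalizer ((P : Subgroup G) : Set G)} := fun u =>
    ⟨t * u.1, orderOf_eq_prime (by
        rw [pow_two]
        calc t * u.1 * (t * u.1) = (t * u.1 * t⁻¹) * u.1 * 1 := by rw [hti]; group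
          _ = 1 := by rw [hinv _ u.2]; simp)
      (fun h => ht1 (by rw [eq_inv_of_mul_eq_one_left h]; exact inv_mem u.2)),
      mul_mem htN (Subgroup.le_normalizer u.2)⟩
  have hF : Function.Bijective F := by
    refine ⟨fun u v e => Subtype.ext (mul_left_cancel (congrArg Subtype.val e)), fun i => ?_⟩
    have hm : t * i.1 ∈ (P : Subgroup G) := by
      obtain ⟨u, hu, hu1⟩ : ∃ u ∈ (P : Subgroup G), u ≠ 1 := by
        have hdvd : p ∣ Nat.card G := D.card ▸ (p_dvd_q hf hq).mul_right _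
        haveI : Nontrivial ↥(P : Subgroup G) :=
          (Subgroup.nontrivial_iff_ne_bot _).2 (P.ne_bot_of_dvd_card hdvd)
        obtain ⟨u, hu⟩ := exists_ne (1 : ↥(P : Subgroup G))
        exact ⟨u, u.2, fun h => hu (Subtype.ext h)⟩
      suffices hs : t * i.1 ∈ Subgroup.centralizer ({u} : Set G) by
        rw [centralizer_eq D hf hq hp P hu hu1] at hs; exact hs
      rw [Subgroup.mem_centralizer_singleton_iff]
      have h1 := invert_of_invol D hf hq hp P i.2.1 i.2.2 u hu
      have h2 := hinv u⁻¹ (inv_mem hu)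
      rw [inv_inv] at h2
      calc t * i.1 * u = t * (i.1 * u * i.1⁻¹) * t⁻¹ * (t * i.1) := by group
        _ = t * u⁻¹ * t⁻¹ * (t * i.1) := by rw [h1]
        _ = u * (t * i.1) := by rw [h2]
    refine ⟨⟨_, hm⟩, Subtype.ext ?_⟩
    show t * (t * i.1) = i.1
    rw [← mul_assoc, ht2, one_mul]
  rw [← Nat.card_congr (Equiv.ofBijective F hF), card_sylow_subgroup D hf hq hp P]

end Cfsg.Agent.OrderNsePGL
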