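/-
The action on the Sylow `p`-subgroups is sharply 3-transitive of `PGL₂` type.

Main result: `exists_mulEquiv`.
-/
import Cfsg.Agent.Lib.OrderNsePGL.Structure
import Cfsg.Agent.Lib.Perm.SharpThreeField

set_option autoImplicit false

open MulAction

namespace Cfsg.Agent.OrderNsePGL

variable {G : Type*} [Group G] [Finite G] {q p : ℕ} [Fact p.Prime]
  (D : Data q G) {f : ℕ} (hf : f ≠ 0) (hq : q = p ^ f) (hp : p ≠ 2)

omit [Finite G] in
theorem smul_sylow_of_mem {P : Sylow p G} {u : G} (hu : u ∈ (P : Subgroup G)) : u • P = P :=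
  Sylow.smul_eq_iff_mem_normalizer.2 (Subgroup.le_normalizer hu)

include D hf hq hp in
/-- An element of a Sylow subgroup fixing another one is trivial. -/
theorem eq_one_of_mem {P Q : Sylow p G} (hPQ : P ≠ Q) {u : G} (hu : u ∈ (P : Subgroup G))
    (hQ : u • Q = Q) : u = 1 := by
  by_contra h1
  have hn : u ∈ Subgroup.normalizer ((Q : Subgroup G) : Set G) :=
    Sylow.smul_eq_iff_mem_normalizer.1 hQ
  have huQ : u ∈ (Q : Subgroup G) :=
    (Subgroup.mem_inf.1 (P.isPGroup'.inf_normalizer_sylow Q ▸ Subgroup.mem_inf.2 ⟨hu, hn⟩)).2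
  exact hPQ (Sylow.ext ((centralizer_eq D hf hq hp P hu h1).symm.trans
    (centralizer_eq D hf hq hp Q huQ h1)))

include D hf hq hp in
theorem card_ne (P : Sylow p G) : Nat.card {R : Sylow p G // R ≠ P} = q := by
  classical
  let := Fintype.ofFinite (Sylow p G)
  rw [Nat.card_eq_fintype_card, Fintype.card_subtype_compl, Fintype.card_subtype_eq,
    ← Nat.card_eq_fintype_card, card_sylow D hf hq hp, Nat.add_sub_cancel]

include D hf hq hp in
/-- A Sylow subgroup is transitive on the others. -/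
theorem exists_mem_smul {P Q R : Sylow p G} (hQ : Q ≠ P) (hR : R ≠ P) :
    ∃ u ∈ (P : Subgroup G), u • Q = R := by
  let F : ↥(P : Subgroup G) → {R : Sylow p G // R ≠ P} := fun u => ⟨u.1 • Q, fun h =>
    hQ (smul_left_cancel u.1 (h.trans (smul_sylow_of_mem u.2).symm))⟩
  have hF : Function.Injective F := fun u v e => by
    have e' : u.1 • Q = v.1 • Q := congrArg Subtype.val e
    exact Subtype.ext (inv_mul_eq_one.1 (eq_one_of_mem D hf hq hp hQ.symm
      (mul_mem (inv_mem u.2) v.2) (by rw [mul_smul, ← e', inv_smul_smul])))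
  obtain ⟨u, hu⟩ := (hF.bijective_of_nat_card_le
    (by rw [card_ne D hf hq hp P, card_sylow_subgroup D hf hq hp P])).2 ⟨R, hR⟩
  exact ⟨u.1, u.2, congrArg Subtype.val hu⟩

include D hf hq hp in
theorem exists_smul_two {P Q P' Q' : Sylow p G} (h : P ≠ Q) (h' : P' ≠ Q') :
    ∃ g : G, g • P = P' ∧ g • Q = Q' := by
  obtain ⟨g, hg⟩ := exists_smul_eq G P P'
  have hgQ : g • Q ≠ P' := fun e => h (smul_left_cancel g (hg.trans e.symm))
  obtain ⟨u, hu, huQ⟩ := exists_mem_smul D hf hq hp hgQ h'.symm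
  exact ⟨u * g, by rw [mul_smul, hg, smul_sylow_of_mem hu], by rw [mul_smul, huQ]⟩

include D hf hq hp in
/-- The two-point stabilisers have order `q - 1`. -/
theorem card_two_stab {P Q : Sylow p G} (h : P ≠ Q) :
    Nat.card ↥(stabilizer G P ⊓ stabilizer G Q) = q - 1 := by
  obtain ⟨h3, h8⟩ := q_bounds hf hq hp
  let F : ↥(P : Subgroup G) × ↥(stabilizer G P ⊓ stabilizer G Q) → ↥(stabilizer G P) :=
    fun x => ⟨x.1.1 * x.2.1, mul_mem (smul_sylow_of_mem x.1.2) x.2.2.1⟩
  have hF : Function.Bijective F := by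
    refine ⟨fun x y e => ?_, fun n => ?_⟩
    · have e' : x.1.1 * x.2.1 = y.1.1 * y.2.1 := congrArg Subtype.val e
      have hx : (x.2.1 : G) • Q = Q := x.2.2.2
      have hy : (y.2.1 : G) • Q = Q := y.2.2.2
      have h1 : x.1.1 = y.1.1 := inv_mul_eq_one.1 (eq_one_of_mem D hf hq hp h
        (mul_mem (inv_mem x.1.2) y.1.2)
        (calc (x.1.1⁻¹ * y.1.1) • Q = (x.1.1⁻¹ * y.1.1) • y.2.1 • Q := by rw [hy]
          _ = Q := by rw [← mul_smul, mul_assoc, ← e', inv_mul_cancel_left, hx]))
      rw [h1] at e'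
      exact Prod.ext (Subtype.ext h1) (Subtype.ext (mul_left_cancel e'))
    · have hn : n.1 • P = P := n.2
      obtain ⟨u, hu, huQ⟩ := exists_mem_smul D hf hq hp h.symm
        (R := n.1 • Q) (fun e => h (smul_left_cancel n.1 (hn.trans e.symm)))
      refine ⟨(⟨u, hu⟩, ⟨u⁻¹ * n.1, ?_, ?_⟩), Subtype.ext (mul_inv_cancel_left u n.1)⟩
      · show (u⁻¹ * n.1) • P = P
        rw [mul_smul, hn, smul_sylow_of_mem (inv_mem hu)]
      · show (u⁻¹ * n.1) • Q = Q
        rw [mul_smul, ← huQ, inv_smul_smul]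
  have hc := Nat.card_congr (Equiv.ofBijective F hF)
  rw [Nat.card_prod, card_sylow_subgroup D hf hq hp P] at hc
  exact Nat.eq_of_mul_eq_mul_left (by omega : 0 < q) (hc.trans
    ((congrArg (fun K : Subgroup G => Nat.card ↥K) (Sylow.stabilizer_eq_normalizer P)).trans
      (card_normalizer D hf hq hp P)))

include D hf hq hp in
/-- Only the identity fixes three Sylow subgroups. -/
theorem key {g : G} {A B C : Sylow p G} (hAB : A ≠ B) (hAC : A ≠ C) (hBC : B ≠ C)
    (hA : g • A = A) (hB : g • B = B) (hC : g • C = C) : g = 1 := by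
  obtain ⟨u, hu, huB⟩ := exists_mem_smul D hf hq hp hAB.symm hAC.symm
  have hu1 : u ≠ 1 := by
    rintro rfl
    exact hBC ((one_smul G B).symm.trans huB)
  have hv : g * u * g⁻¹ ∈ (A : Subgroup G) :=
    (Subgroup.mem_normalizer_iff.1 (Sylow.smul_eq_iff_mem_normalizer.1 hA) u).1 hu
  have he : u = g * u * g⁻¹ := inv_mul_eq_one.1 (eq_one_of_mem D hf hq hp hAB
    (mul_mem (inv_mem hu) hv) (by
      rw [mul_smul, inv_smul_eq_iff, huB, mul_smul, mul_smul, inv_smul_eq_iff.2 hB.symm, huB, hC]))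
  have hg : g ∈ Subgroup.centralizer ({u} : Set G) :=
    Subgroup.mem_centralizer_singleton_iff.2 (mul_inv_eq_iff_eq_mul.1 he.symm)
  rw [centralizer_eq D hf hq hp A hu hu1] at hg
  exact eq_one_of_mem D hf hq hp hAB hg hB

include D hf hq hp in
theorem three_transitive : IsMultiplyPretransitive G (Sylow p G) 3 := by
  classical
  obtain ⟨h3, h8⟩ := q_bounds hf hq hp
  let := Fintype.ofFinite (Sylow p G)
  have hinj : ∀ x : Fin 3 ↪ Sylow p G, Function.Injective fun g : G => g • x :=
    fun x g g' e => by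
      have hv : ∀ i, g • x i = g' • x i := fun i => congrArg (fun y : Fin 3 ↪ Sylow p G => y i) e
      refine inv_mul_eq_one.1 (key D hf hq hp (A := x 0) (B := x 1) (C := x 2) ?_ ?_ ?_ ?_ ?_ ?_)
      · exact fun h => absurd (x.injective h) (by decide)
      · exact fun h => absurd (x.injective h) (by decide)
      · exact fun h => absurd (x.injective h) (by decide)
      all_goals rw [mul_smul, ← hv, inv_smul_smul]
  have hcard : Nat.card (Fin 3 ↪ Sylow p G) ≤ Nat.card G := by
    rw [Nat.card_eq_fintype_card, Fintype.card_embedding_eq, Fintype.card_fin,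
      ← Nat.card_eq_fintype_card, card_sylow D hf hq hp, D.card]
    obtain ⟨r, rfl⟩ : ∃ r, q = r + 1 := ⟨q - 1, by omega⟩
    simp only [Nat.descFactorial_succ, Nat.descFactorial_zero, mul_one, Nat.sub_zero,
      Nat.add_sub_cancel, show r + 1 + 1 - 2 = r by omega]
    rw [show (r + 1) ^ 2 - 1 = r * (r + 2) by
      rw [Nat.sub_eq_iff_eq_add (by nlinarith)]; ring]
    exact le_of_eq (by ring)
  exact ⟨fun x y => ((hinj x).bijective_of_nat_card_le hcard).2 y⟩

include D hf hq hp in
theorem card_invol_move (A : Sylow p G) :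
    Nat.card {i : G // orderOf i = 2 ∧ i • A ≠ A} = q ^ 2 - q := by
  classical
  have e : {i : G // orderOf i = 2 ∧ i • A = A} ⊕ {i : G // orderOf i = 2 ∧ i • A ≠ A} ≃
      {i : G // orderOf i = 2} :=
    (Equiv.sumCongr
      (Equiv.subtypeSubtypeEquivSubtypeInter (fun i : G => orderOf i = 2) (fun i => i • A = A)).symm
      (Equiv.subtypeSubtypeEquivSubtypeInter (fun i : G => orderOf i = 2)
        (fun i => ¬ i • A = A)).symm).trans (Equiv.sumCompl _)
  have h := Nat.card_congr e
  have hfix : Nat.card {i : G // orderOf i = 2 ∧ i • A = A} = q := by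
    rw [← card_invol_normalizer D hf hq hp A]
    exact Nat.card_congr (Equiv.subtypeEquivRight fun i =>
      and_congr_right fun _ => Sylow.smul_eq_iff_mem_normalizer)
  rw [Nat.card_sum, hfix, show Nat.card {i : G // orderOf i = 2} = q ^ 2 from
    cnt_two_eq D hf hq hp] at h
  omega

include D hf hq hp in
/-- An involution exchanging two Sylow subgroups inverts their joint stabiliser. -/
theorem invert_two_stab {A B : Sylow p G} (hAB : A ≠ B) {s : G} (hs : s * s = 1)
    (hsA : s • A = B) {h : G} (hhA : h • A = A) (hhB : h • B = B) : s * h * s⁻¹ = h⁻¹ := by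
  classical
  let := Fintype.ofFinite G
  let := Fintype.ofFinite (Sylow p G)
  obtain ⟨h3, h8⟩ := q_bounds hf hq hp
  set S := Finset.univ.filter fun i : G => orderOf i = 2 ∧ i • A ≠ A with hS
  set T := (Finset.univ : Finset (Sylow p G)).erase A with hT
  have hmaps : ∀ i ∈ S, i • A ∈ T := fun i hi => by
    simp only [hS, Finset.mem_filter] at hi
    simp [hT, hi.2.2]
  have hScard : S.card = T.card * (q - 1) := by
    rw [hT, Finset.card_erase_of_mem (Finset.mem_univ A), Finset.card_univ,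
      ← Nat.card_eq_fintype_card, card_sylow D hf hq hp, hS, ← Fintype.card_subtype,
      ← Nat.card_eq_fintype_card, card_invol_move D hf hq hp A, Nat.add_sub_cancel, Nat.mul_sub_one,
      pow_two]
  have hsq : ∀ i : G, orderOf i = 2 → i * i = 1 := fun i hi => by
    rw [← pow_two]; exact orderOf_dvd_iff_pow_eq_one.1 hi.dvd
  have hle : ∀ b ∈ T, (S.filter fun i => i • A = b).card ≤ q - 1 := fun b hb => by
    have hb' : A ≠ b := ((Finset.mem_erase.1 hb).1).symm
    rcases (S.filter fun i => i • A = b).eq_empty_or_nonempty with he | ⟨i₀, hi₀⟩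
    · rw [he]; simp
    rw [← card_two_stab D hf hq hp hb', Nat.card_eq_fintype_card, Fintype.card_subtype]
    refine Finset.card_le_card_of_injOn (fun i => i₀⁻¹ * i) (fun i hi => ?_)
      (fun i _ j _ e => mul_left_cancel e)
    simp only [Finset.mem_coe, Finset.mem_filter, hS, Finset.mem_univ, true_and] at hi hi₀
    have hiA : ∀ j : G, orderOf j = 2 → j • A = b → j • b = A := fun j hj e => by
      rw [← e, ← mul_smul, hsq j hj, one_smul]
    simp only [Finset.mem_coe, Finset.mem_filter, Finset.mem_univ, true_and, Subgroup.mem_inf,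
      mem_stabilizer_iff, mul_smul, inv_smul_eq_iff]
    exact ⟨by rw [hi.2, hi₀.2], by rw [hiA i hi.1.1 hi.2, hiA i₀ hi₀.1.1 hi₀.2]⟩
  have hsum : ∑ b ∈ T, (S.filter fun i => i • A = b).card = ∑ b ∈ T, (q - 1) := by
    rw [← Finset.card_eq_sum_card_fiberwise hmaps, hScard, Finset.sum_const, smul_eq_mul]
  have hBT : B ∈ T := by simp [hT, hAB.symm]
  have hB := (Finset.sum_eq_sum_iff_of_le hle).1 hsum B hBT
  have hsB : s • B = A := by rw [← hsA, ← mul_smul, hs, one_smul]
  have hsub : (S.filter fun i => i • A = B) ⊆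
      (Finset.univ.filter fun x : G => x ∈ stabilizer G A ⊓ stabilizer G B).image (s * ·) := by
    intro i hi
    simp only [Finset.mem_filter, hS, Finset.mem_univ, true_and] at hi
    have hiB : i • B = A := by rw [← hi.2, ← mul_smul, hsq i hi.1.1, one_smul]
    refine Finset.mem_image.2 ⟨s⁻¹ * i, ?_, mul_inv_cancel_left s i⟩
    simp only [Finset.mem_filter, Finset.mem_univ, true_and, Subgroup.mem_inf,
      mem_stabilizer_iff, mul_smul, inv_smul_eq_iff]
    exact ⟨by rw [hi.2, hsA], by rw [hiB, hsB]⟩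
  have heq := Finset.eq_of_subset_of_card_le hsub (by
    rw [hB, Finset.card_image_of_injective _ (mul_right_injective s), ← Fintype.card_subtype,
      ← Nat.card_eq_fintype_card, card_two_stab D hf hq hp hAB])
  have hmem : s * h ∈ S.filter fun i => i • A = B := by
    rw [heq]
    exact Finset.mem_image_of_mem _ (Finset.mem_filter.2 ⟨Finset.mem_univ _, hhA, hhB⟩)
  simp only [Finset.mem_filter, hS, Finset.mem_univ, true_and] at hmem
  have h2 := hsq _ hmem.1.1
  rw [inv_eq_of_mul_eq_one_right hs]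
  refine eq_inv_of_mul_eq_one_left ?_
  rw [← h2]; group

include D hf hq hp in
/-- The group is `PGL₂` over a field of order `q`. -/
theorem exists_mulEquiv : ∃ (F : Type) (_ : Field F) (_ : Fintype F), Fintype.card F = q ∧
    Nonempty (G ≃* Matrix.ProjGenLinGroup (Fin 2) F) := by
  classical
  obtain ⟨h3, h8⟩ := q_bounds hf hq hp
  let := Fintype.ofFinite (Sylow p G)
  have hΩ : Fintype.card (Sylow p G) = q + 1 := by
    rw [← Nat.card_eq_fintype_card, card_sylow D hf hq hp]
  obtain ⟨A, -, B, -, C, -, hAB, hAC, hBC⟩ :=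
    (Finset.two_lt_card (s := (Finset.univ : Finset (Sylow p G)))).1 (by
      rw [Finset.card_univ, hΩ]; omega)
  have hinj : Function.Injective (toPermHom G (Sylow p G)) := (injective_iff_map_eq_one _).2
    fun g hg => key D hf hq hp hAB hAC hBC (congrArg (fun σ : Equiv.Perm (Sylow p G) => σ A) hg)
      (congrArg (fun σ : Equiv.Perm (Sylow p G) => σ B) hg)
      (congrArg (fun σ : Equiv.Perm (Sylow p G) => σ C) hg)
  let G' := (toPermHom G (Sylow p G)).range
  have h3' : IsMultiplyPretransitive G' (Sylow p G) 3 := ⟨fun x y => by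
    obtain ⟨g, hg⟩ := (three_transitive D hf hq hp).exists_smul_eq x y
    exact ⟨⟨_, g, rfl⟩, hg ▸ rfl⟩⟩
  have hkey : ∀ g : G', ∀ x y z : Sylow p G, x ≠ y → x ≠ z → y ≠ z → g • x = x → g • y = y →
      g • z = z → g = 1 := by
    rintro ⟨_, g, rfl⟩ x y z h1 h2 h3 e1 e2 e3
    refine Subtype.ext ?_
    rw [key D hf hq hp h1 h2 h3 (g := g) e1 e2 e3]
    exact map_one _
  obtain ⟨g, hgA, hgB, hgC⟩ := Perm.exists_smul_three (three_transitive D hf hq hp) hAB hAC hBC
    hAB.symm hBC hAC
  have hgs : g * g = 1 := key D hf hq hp hAB hAC hBC (by rw [mul_smul, hgA, hgB])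
    (by rw [mul_smul, hgB, hgA]) (by rw [mul_smul, hgC, hgC])
  obtain ⟨F, iF, iFt, hcard, ⟨e⟩⟩ := Perm.exists_mulEquiv_pgl G' h3' hkey hAB hAC hBC
    ⟨_, g, rfl⟩ hgA hgB hgC (by
      rintro ⟨_, h, rfl⟩ hh
      refine Subtype.ext ?_
      show toPermHom G _ g * toPermHom G _ h * (toPermHom G _ g)⁻¹ = (toPermHom G _ h)⁻¹
      rw [← map_inv, ← map_inv, ← map_mul, ← map_mul,
        invert_two_stab D hf hq hp hAB hgs hgA hh.1 hh.2])
  exact ⟨F, iF, iFt, by omega, ⟨(MonoidHom.ofInjective hinj).trans e⟩⟩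

end Cfsg.Agent.OrderNsePGL
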