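/-
The numbers of elements of each order in `PGL₂(q)`, `q` odd.

Main result: `model_data`.
-/
import Cfsg.Agent.Lib.OrderNsePGL.Counts
import Cfsg.Agent.Lib.PSL2.Overgroups
import Cfsg.Agent.Lib.PSL2.Existence

set_option autoImplicit false

open Matrix MulAction Cfsg.Agent.PSL2

namespace Cfsg.Agent.OrderNsePGL

universe u

variable {F : Type u} [Field F] [Fintype F] (p : ℕ) [Fact p.Prime] [CharP F p]

include p in
theorem fixed_unique {u : PGL2 F} (hu : u ^ p = 1) (hu1 : u ≠ 1) :
    ∃! P : Pt F, u • P = P := by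
  obtain ⟨n, hn, hq⟩ := GLOrder.exists_card_eq_pow (F := F) p
  have hpg : IsPGroup p (Subgroup.zpowers u) := IsPGroup.of_card (n := 1) (by
    rw [Nat.card_zpowers, pow_one]; exact orderOf_eq_prime hu hu1)
  obtain ⟨P, hP⟩ := hpg.nonempty_fixed_point_of_prime_not_dvd_card (Pt F) (by
    rw [card_pt, hq]
    intro h
    rw [Nat.dvd_add_right (dvd_pow_self p (by omega))] at h
    exact (Fact.out : p.Prime).one_lt.ne' (Nat.dvd_one.1 h))
  have hfix : u • P = P := hP ⟨u, Subgroup.mem_zpowers _⟩
  refine ⟨P, hfix, fun Q hQ => ?_⟩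
  obtain ⟨h, hh⟩ := exists_map_pinf P
  have hf : (h * u * h⁻¹) • (pinf : Pt F) = pinf := by
    rw [mul_smul, mul_smul, ← hh, inv_smul_smul, hfix]
  obtain ⟨a, b, hab⟩ := exists_aff_of_fix hf
  have hne : aff a b ≠ 1 := by rw [← hab, Ne, conj_eq_one_iff]; exact hu1
  rcases fixedBy_aff p hne with ⟨-, h2⟩ | ⟨h2, -⟩
  · have h3 : h • Q ∈ fixedBy (Pt F) (aff a b) := by
      rw [mem_fixedBy, ← hab, mul_smul, mul_smul, inv_smul_smul, hQ]
    rw [h2, Set.mem_singleton_iff, ← hh] at h3
    exact smul_left_cancel h h3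
  · exact absurd (by rw [← hab, conj_pow, hu, mul_one, mul_inv_cancel]) h2

include p in
theorem centralizer_exponent {u g : PGL2 F} (hu : u ^ p = 1) (hu1 : u ≠ 1) (hc : Commute g u) :
    g ^ p = 1 := by
  obtain ⟨P, hP, huniq⟩ := fixed_unique p hu hu1
  obtain ⟨h, hh⟩ := exists_map_pinf P
  have hg : g • P = P := huniq _ (show u • g • P = g • P by rw [← mul_smul, ← hc.eq, mul_smul, hP])
  have key : ∀ x : PGL2 F, x • P = P → ∃ a b, h * x * h⁻¹ = aff a b := fun x hx =>
    exists_aff_of_fix (by rw [mul_smul, mul_smul, ← hh, inv_smul_smul, hx])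
  obtain ⟨a, b, hab⟩ := key g hg
  obtain ⟨a', b', hab'⟩ := key u hP
  have ha' : a' = 1 := by
    rw [← aff_pow_char_iff p (b := b'), ← hab', conj_pow, hu, mul_one, mul_inv_cancel]
  subst ha'
  have hb : b' ≠ 0 := fun hb => hu1 (by
    rw [← conj_eq_one_iff (a := h), hab', hb, aff_one_zero])
  have hcomm : aff a b * aff 1 b' = aff 1 b' * aff a b := by
    rw [← hab, ← hab']
    calc h * g * h⁻¹ * (h * u * h⁻¹) = h * (g * u) * h⁻¹ := by group
      _ = h * (u * g) * h⁻¹ := by rw [hc.eq]
      _ = _ := by group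
  rw [aff_mul_aff, aff_mul_aff, aff_inj] at hcomm
  have hval : (a : F) * b' + b = 1 * b + b' := by simpa using hcomm.2
  have ha : a = 1 := Units.ext (mul_right_cancel₀ hb (by
    rw [Units.val_one, one_mul]; linear_combination hval))
  subst ha
  rw [← conj_eq_one_iff (a := h), ← conj_pow, hab, aff_pow_char_iff]

include p in
theorem cnt_char : cnt (PGL2 F) p = Fintype.card F ^ 2 - 1 := by
  classical
  have hp1 : p ≠ 1 := (Fact.out : p.Prime).one_lt.ne'
  have hord : ∀ {b : F}, b ≠ 0 → orderOf (aff (1 : Fˣ) b) = p := fun {b} hb =>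
    orderOf_eq_prime ((aff_pow_char_iff p).2 rfl) (by rw [Ne, aff_eq_one_iff]; simp [hb])
  choose h hh using fun P : Pt F => exists_map_pinf P
  let f : Pt F × {b : F // b ≠ 0} → {g : PGL2 F // orderOf g = p} := fun x =>
    ⟨(h x.1)⁻¹ * aff 1 x.2.1 * h x.1, by
      rw [show (h x.1)⁻¹ * aff 1 x.2.1 * h x.1 = MulAut.conj (h x.1)⁻¹ (aff 1 x.2.1) by simp,
        MulEquiv.orderOf_eq, hord x.2.2]⟩
  have hfix : ∀ x, (f x).1 • x.1 = x.1 := fun x => by
    show ((h x.1)⁻¹ * aff 1 x.2.1 * h x.1) • x.1 = x.1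
    rw [mul_smul, mul_smul, hh, aff_smul_pinf, ← hh x.1, inv_smul_smul]
  have hf : Function.Bijective f := by
    refine ⟨fun x y e => ?_, fun g => ?_⟩
    · have e' : (f x).1 = (f y).1 := congrArg Subtype.val e
      have hpow : (f x).1 ^ p = 1 := orderOf_dvd_iff_pow_eq_one.1 (f x).2.dvd
      have hne : (f x).1 ≠ 1 := fun h1 => hp1 (by rw [← (f x).2, h1, orderOf_one])
      have hxy : x.1 = y.1 := (fixed_unique p hpow hne).unique (hfix x) (by rw [e']; exact hfix y)
      obtain ⟨P, b⟩ := x
      obtain ⟨Q, c⟩ := y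
      simp only at hxy
      subst hxy
      have := aff_inj.1 (mul_left_cancel (mul_right_cancel e'))
      rw [Prod.mk.injEq]
      exact ⟨rfl, Subtype.ext this.2⟩
    · have hpow : g.1 ^ p = 1 := orderOf_dvd_iff_pow_eq_one.1 g.2.dvd
      have hne : g.1 ≠ 1 := fun h1 => hp1 (by rw [← g.2, h1, orderOf_one])
      obtain ⟨P, hP, -⟩ := fixed_unique p hpow hne
      obtain ⟨a, b, hab⟩ := exists_aff_of_fix (g := h P * g.1 * (h P)⁻¹)
        (by rw [mul_smul, mul_smul, ← hh P, inv_smul_smul, hP])
      have ha : a = 1 := by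
        rw [← aff_pow_char_iff p (b := b), ← hab, conj_pow, hpow, mul_one, mul_inv_cancel]
      subst ha
      have hb : b ≠ 0 := fun hb => hne (by
        rw [← conj_eq_one_iff (a := h P), hab, hb, aff_one_zero])
      refine ⟨(P, ⟨b, hb⟩), Subtype.ext ?_⟩
      show (h P)⁻¹ * aff 1 b * h P = g.1
      rw [← hab]; group
  rw [cnt, ← Nat.card_congr (Equiv.ofBijective f hf), Nat.card_prod, card_pt,
    Nat.card_eq_fintype_card, Nat.card_eq_fintype_card, Fintype.card_subtype_compl,
    Fintype.card_subtype_eq]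
  rw [show Fintype.card F ^ 2 - 1 = Fintype.card F ^ 2 - 1 ^ 2 by simp, Nat.sq_sub_sq]

include p in
theorem two_ne_zero_field (hp : p ≠ 2) : (2 : F) ≠ 0 := fun h => hp (by
  have h2 : ((2 : ℕ) : F) = 0 := by exact_mod_cast h
  have := (CharP.cast_eq_zero_iff F p 2).1 h2
  exact (Nat.prime_dvd_prime_iff_eq Fact.out Nat.prime_two).1 this)

include p in
theorem cnt_two (hp : p ≠ 2) : cnt (PGL2 F) 2 = Fintype.card F ^ 2 := by
  classical
  have h2 := two_ne_zero_field (F := F) p hp
  have hinv : ∀ {a b c : F} (hd : a * -a - b * c ≠ 0),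
      orderOf (mob a b c (-a) hd : PGL2 F) = 2 := fun {a b c} hd => by
    refine orderOf_eq_prime ?_ ?_
    · rw [pow_two, mob_mul_mob, mob_eq_one_iff]
      exact ⟨by ring, by ring, by ring⟩
    · rw [Ne, mob_eq_one_iff]
      rintro ⟨hb, hc, ha⟩
      apply hd
      have : 2 * a = 0 := by linear_combination ha
      rcases mul_eq_zero.1 this with h | h
      · exact absurd h h2
      · subst h; subst hb; simp
  let f : (F × {y : F // y ≠ 0}) ⊕ F → {g : PGL2 F // orderOf g = 2} := fun x =>
    match x with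
    | .inl (a, y) => ⟨mob a (y.1 - a * a) 1 (-a) (by
        rw [show a * -a - (y.1 - a * a) * 1 = -y.1 by ring]; exact neg_ne_zero.2 y.2), hinv _⟩
    | .inr b => ⟨mob 1 b 0 (-1) (by simp), hinv _⟩
  have hf : Function.Bijective f := by
    refine ⟨fun x y e => ?_, fun g => ?_⟩
    · have e' := congrArg Subtype.val e
      rcases x with ⟨a, y₁⟩ | b <;> rcases y with ⟨a', y₂⟩ | b' <;>
        simp only [f] at e' <;> rw [mob_eq_mob_iff] at e' <;> obtain ⟨u, h1, h2', h3, h4⟩ := e'
      · rw [one_mul] at h3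
        rw [← h3] at h1 h2'
        simp only [mul_one] at h1 h2'
        subst h1
        congr 1
        exact Prod.ext rfl (Subtype.ext (by linear_combination -h2'))
      · rw [one_mul] at h3
        exact absurd h3.symm u.ne_zero
      · simp at h3
      · rw [one_mul] at h1
        rw [← h1, mul_one] at h2'
        rw [h2']
    · obtain ⟨g, hg⟩ := g
      obtain ⟨a, b, c, d, hd, rfl⟩ := exists_mob g
      have hsq : (mob a b c d hd : PGL2 F) * mob a b c d hd = 1 := by
        rw [← pow_two]
        exact orderOf_dvd_iff_pow_eq_one.1 hg.dvd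
      have hne : (mob a b c d hd : PGL2 F) ≠ 1 := fun h => by rw [h, orderOf_one] at hg; omega
      rw [mob_mul_mob, mob_eq_one_iff] at hsq
      obtain ⟨e1, e2, e3⟩ := hsq
      have hd' : d = -a := by
        by_contra hcon
        have hs : a + d ≠ 0 := fun h => hcon (by linear_combination h)
        have hb : b = 0 := by
          have : b * (a + d) = 0 := by linear_combination e1
          exact (mul_eq_zero.1 this).resolve_right hs
        have hc : c = 0 := by
          have : c * (a + d) = 0 := by linear_combination e2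
          exact (mul_eq_zero.1 this).resolve_right hs
        have : (a - d) * (a + d) = 0 := by linear_combination e3
        exact hne (mob_eq_one_iff.2 ⟨hb, hc, sub_eq_zero.1 ((mul_eq_zero.1 this).resolve_right hs)⟩)
      subst hd'
      by_cases hc : c = 0
      · subst hc
        have ha : a ≠ 0 := fun ha => hd (by subst ha; simp)
        refine ⟨.inr (b / a), Subtype.ext ?_⟩
        simp only [f]
        rw [mob_eq_mob_iff]
        exact ⟨Units.mk0 a ha, by simp, by simp [div_mul_cancel₀ b ha], by simp, by simp⟩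
      · refine ⟨.inl (a / c, ⟨b / c + a / c * (a / c), ?_⟩), Subtype.ext ?_⟩
        · intro h
          apply hd
          field_simp at h
          linear_combination -h
        · simp only [f]
          rw [mob_eq_mob_iff]
          refine ⟨Units.mk0 c hc, ?_, ?_, ?_, ?_⟩ <;> simp only [Units.val_mk0]
          · field_simp
          · field_simp; ring
          · simp
          · field_simp
  rw [cnt, ← Nat.card_congr (Equiv.ofBijective f hf), Nat.card_sum, Nat.card_prod,
    Nat.card_eq_fintype_card, Nat.card_eq_fintype_card, Fintype.card_subtype_compl,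
    Fintype.card_subtype_eq, pow_two]
  have : 1 ≤ Fintype.card F := Fintype.card_pos
  nlinarith [Nat.sub_add_cancel this]

include p in
theorem dvd_cnt_of_ne {n : ℕ} (h1 : n ≠ 1) (hn : n ≠ p) : Fintype.card F ∣ cnt (PGL2 F) n := by
  classical
  have : Finite (PGL2 F) := Finite.of_surjective _ ProjGenLinGroup.mk_surjective
  rcases eq_or_ne n 0 with rfl | h0
  · rw [cnt_zero]; exact dvd_zero _
  let T : Multiplicative F →* PGL2 F :=
    { toFun := fun b => aff 1 b.toAdd
      map_one' := aff_one_zero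
      map_mul' := fun b c => by rw [aff_mul_aff]; simp [add_comm] }
  letI : MulAction (Multiplicative F) {g : PGL2 F // orderOf g = n} :=
    { smul := fun b g => ⟨MulAut.conj (T b) g.1, by rw [MulEquiv.orderOf_eq, g.2]⟩
      one_smul := fun g => Subtype.ext (show MulAut.conj (T 1) g.1 = g.1 by simp)
      mul_smul := fun b c g => Subtype.ext
        (show MulAut.conj (T (b * c)) g.1 = MulAut.conj (T b) (MulAut.conj (T c) g.1) by
          rw [map_mul, map_mul]; rfl) }
  have hfree : ∀ g : {g : PGL2 F // orderOf g = n}, stabilizer (Multiplicative F) g = ⊥ := fun g => by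
    refine (Subgroup.eq_bot_iff_forall _).2 fun b hb => ?_
    by_contra hb1
    have hb0 : b.toAdd ≠ 0 := fun h => hb1 (Multiplicative.toAdd.injective (h.trans toAdd_one.symm))
    have hcomm : Commute g.1 (T b) :=
      (mul_inv_eq_iff_eq_mul.1 (congrArg Subtype.val hb)).symm
    have hp' := centralizer_exponent p (u := T b) ((aff_pow_char_iff p).2 rfl)
      (by show aff 1 _ ≠ 1; rw [Ne, aff_eq_one_iff]; simp [hb0]) hcomm
    have := orderOf_dvd_of_pow_eq_one hp'
    rw [g.2] at this
    rcases (Nat.dvd_prime Fact.out).1 this with h | h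
    · exact h1 h
    · exact hn h
  have e := selfEquivSigmaOrbitsQuotientStabilizer (Multiplicative F) {g : PGL2 F // orderOf g = n}
  let := Fintype.ofFinite (Quotient (orbitRel (Multiplicative F) {g : PGL2 F // orderOf g = n}))
  rw [cnt, Nat.card_congr e, Nat.card_sigma]
  refine Finset.dvd_sum fun ω _ => ?_
  rw [hfree, ← Subgroup.index_eq_card, Subgroup.index_bot, Nat.card_eq_fintype_card,
    Fintype.card_multiplicative]

include p in
/-- `PGL₂(q)` satisfies `Data q`. -/
theorem model_data (hp : p ≠ 2) : Data (Fintype.card F) (PGL2 F) := by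
  have : Finite (PGL2 F) := Finite.of_surjective _ ProjGenLinGroup.mk_surjective
  refine ⟨?_, ⟨2, cnt_two p hp⟩, fun n => ?_⟩
  · rw [card_pgl_eq, Nat.card_eq_fintype_card,
      show Fintype.card F ^ 2 - 1 = Fintype.card F ^ 2 - 1 ^ 2 by simp, Nat.sq_sub_sq]
  · rcases eq_or_ne n 1 with rfl | h1
    · exact Or.inr (Or.inl cnt_one)
    · rcases eq_or_ne n p with rfl | hn
      · exact Or.inr (Or.inr (Or.inr (Or.inl (cnt_char n))))
      · exact Or.inr (Or.inr (Or.inr (Or.inr (dvd_cnt_of_ne p h1 hn))))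

end Cfsg.Agent.OrderNsePGL
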